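import Cfsg.Agent.H952.On.Table
import Cfsg.Agent.H712.HH
import Cfsg.Agent.H712.GmnAb
import Cfsg.Agent.H722.RealP
import Cfsg.Agent.H720.RowDef

/-!
# Abelian Sylow subgroups of small rank (helper952)

* `Ev.of_abelian` : `S` with trivial centre and abelian Sylow `p`-subgroups of rank `< p` and with a real element of
  order `p`: an involution of `S` normalises a Sylow `p`-subgroup of `MulAut S`. (No knowledge of `MulAut S` is needed.)

Proof. `L = N_S(Q) / C(E)`, `E = Ω₁(Q)`, is a `p'`-group of even order normalised by the image `B` of the `p`-group `A`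
in `MulAut E`, `|E| < p ^ p`. A `B`-invariant Sylow 2-subgroup `T` of `L` has a nontrivial element fixed by `B`
(`H712.HH.eq_bot_mulAut`).
-/

set_option autoImplicit false

open Subgroup

namespace Cfsg.Agent.H952.On

open Cfsg Cfsg.Agent.H467.OddNorm Cfsg.Agent.H712 Cfsg.Agent.H712.Gmn Cfsg.Agent.H722.RealP

section

variable {Γ : Type*} [Group Γ] {p : ℕ} [hp : Fact p.Prime]

theorem exists_two {L B : Subgroup Γ} [Finite L] [Finite B] (hB : IsPGroup p B) (hL : ¬ p ∣ Nat.card L)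
    (hBL : ∀ b ∈ B, ∀ l ∈ L, b * l * b⁻¹ ∈ L) (h2 : 2 ∣ Nat.card L) :
    ∃ T : Subgroup Γ, T ≤ L ∧ T ≠ ⊥ ∧ IsPGroup 2 T ∧ ∀ b ∈ B, ∀ m ∈ T, b * m * b⁻¹ ∈ T := by
  have : Fact (Nat.Prime 2) := ⟨Nat.prime_two⟩
  let _ : MulDistribMulAction ↥B ↥L := {
    smul := fun b x => ⟨b * x * (b : Γ)⁻¹, hBL b b.2 x x.2⟩
    one_smul := fun x => Subtype.ext (by show (1 : Γ) * x * (1 : Γ)⁻¹ = x; simp)
    mul_smul := fun b c x => Subtype.ext (by
      show (b * c : Γ) * x * (b * c : Γ)⁻¹ = b * (c * x * (c : Γ)⁻¹) * (b : Γ)⁻¹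
      group)
    smul_mul := fun b x y => Subtype.ext (by
      show (b : Γ) * (x * y) * (b : Γ)⁻¹ = b * x * (b : Γ)⁻¹ * (b * y * (b : Γ)⁻¹)
      group)
    smul_one := fun b => Subtype.ext (by show (b : Γ) * 1 * (b : Γ)⁻¹ = 1; simp) }
  have hcard : ¬ p ∣ Nat.card (Sylow 2 ↥L) := by
    intro hd
    obtain ⟨P⟩ : Nonempty (Sylow 2 ↥L) := inferInstance
    exact hL ((hd.trans P.card_dvd_index).trans (P : Subgroup ↥L).index_dvd_card)
  obtain ⟨P, hP⟩ := hB.nonempty_fixed_point_of_prime_not_dvd_card (Sylow 2 ↥L) hcard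
  refine ⟨(P : Subgroup ↥L).map L.subtype, map_subtype_le _, ?_, P.2.map _, ?_⟩
  · intro h0
    have h1 : (P : Subgroup ↥L) ≠ ⊥ := P.ne_bot_of_dvd_card h2
    rw [Subgroup.map_eq_bot_iff, L.ker_subtype, le_bot_iff] at h0
    exact h1 h0
  · rintro b hb _ ⟨x, hx, rfl⟩
    have h2 : (⟨b, hb⟩ : ↥B) • P = P := hP ⟨b, hb⟩
    refine ⟨⟨b * x * b⁻¹, hBL b hb x x.2⟩, ?_, rfl⟩
    have h3 : (⟨b * x * b⁻¹, hBL b hb x x.2⟩ : ↥L) ∈ P := by
      rw [← h2]
      exact ⟨x, hx, rfl⟩
    exact h3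

theorem even_fixed {E : Type*} [CommGroup E] [Finite E] (hE : ∀ x : E, x ^ p = 1)
    (hcard : Nat.card E < p ^ p) {L B : Subgroup (MulAut E)} (hp2 : p ≠ 2) (hB : IsPGroup p B)
    (hL : ¬ p ∣ Nat.card L) (hBL : ∀ b ∈ B, ∀ l ∈ L, b * l * b⁻¹ ∈ L) (h2 : 2 ∣ Nat.card L) :
    ∃ l ∈ L, orderOf l = 2 ∧ ∀ b ∈ B, b * l * b⁻¹ = l := by
  obtain ⟨T, hTL, hT1, hT2, hBT⟩ := exists_two hB hL hBL h2
  obtain ⟨l, hl, hl1, hfix⟩ : ∃ l ∈ T, l ≠ 1 ∧ ∀ b ∈ B, b * l * b⁻¹ = l := by
    by_contra hcon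
    push Not at hcon
    apply hT1
    refine HH.eq_bot_mulAut (p := p) hE hcard hB ?_ hBT ?_
    · intro hd
      obtain ⟨n, hn⟩ := (IsPGroup.iff_card (p := 2)).1 hT2
      rw [hn] at hd
      have := (Nat.prime_dvd_prime_iff_eq hp.out Nat.prime_two).1 (hp.out.dvd_of_dvd_pow hd)
      exact hp2 this
    · intro l hl hf
      by_contra h1
      obtain ⟨b, hb, hne⟩ := hcon l hl h1
      exact hne (hf b hb)
  obtain ⟨k, hk⟩ := hT2 ⟨l, hl⟩
  have hk' : l ^ 2 ^ k = 1 := congrArg Subtype.val hk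
  obtain ⟨j, -, hj⟩ := (Nat.dvd_prime_pow Nat.prime_two).1 (orderOf_dvd_of_pow_eq_one hk')
  have hj0 : j ≠ 0 := by
    rintro rfl
    rw [pow_zero, orderOf_eq_one_iff] at hj
    exact hl1 hj
  obtain ⟨i, rfl⟩ := Nat.exists_eq_succ_of_ne_zero hj0
  refine ⟨l ^ 2 ^ i, pow_mem (hTL hl) _, ?_, fun b hb => ?_⟩
  · rw [orderOf_pow, hj, Nat.gcd_eq_right (pow_dvd_pow 2 (Nat.le_succ i)), Nat.succ_eq_add_one, pow_succ,
      Nat.mul_div_cancel_left _ (by positivity)]
  · rw [← conj_pow, hfix b hb]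

end

section

universe u

variable {S : Type u} [Group S] [Finite S] {p : ℕ} [hp : Fact p.Prime]

/-- **Abelian Sylow `p`-subgroups of rank less than `p`.** -/
theorem Ev.of_abelian (hp2 : p ≠ 2) (hZ : center S = ⊥) (hab : ∀ Q : Sylow p S, ∀ x ∈ Q, ∀ y ∈ Q, x * y = y * x)
    (hrk : ∀ Q : Sylow p S, Nat.card {x : S // x ∈ Q ∧ x ^ p = 1} < p ^ p) (hreal : HasReal p S) : Ev p S := by
  classical
  have hfA : Finite (MulAut S) := by
    have : Finite (S ≃ S) := inferInstance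
    exact Finite.of_injective (fun a : MulAut S => (a.toEquiv : S ≃ S)) fun a b h => MulEquiv.toEquiv_injective h
  obtain ⟨P⟩ : Nonempty (Sylow p (MulAut S)) := inferInstance
  set A : Subgroup (MulAut S) := (P : Subgroup (MulAut S)) with hA
  have hAp : IsPGroup p A := P.2
  -- the Sylow subgroup
  obtain ⟨Q, hQA⟩ := exists_sylow_conj hZ P
  have hC : IsPGroup p (A.comap (MulAut.conj : S →* MulAut S)) :=
    hAp.comap_of_injective _ (Gmn.conj_injective hZ)
  have hQ : ∀ x : S, x ∈ Q ↔ MulAut.conj x ∈ A := by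
    intro x
    refine ⟨hQA x, fun hx => ?_⟩
    have h9 : x ∈ A.comap (MulAut.conj : S →* MulAut S) := hx
    rw [Q.is_maximal' hC (fun x hx => hQA x hx)] at h9
    exact h9
  have hAQ : ∀ a ∈ A, ∀ x ∈ Q, a x ∈ Q := by
    intro a ha x hx
    rw [hQ, ← mul_conj_inv]
    exact mul_mem (mul_mem ha ((hQ x).1 hx)) (inv_mem ha)
  -- the elements of order dividing `p`
  let E : Subgroup S := {
    carrier := {x | x ∈ Q ∧ x ^ p = 1}
    one_mem' := ⟨one_mem _, one_pow _⟩
    mul_mem' := fun {x y} hx hy => ⟨mul_mem hx.1 hy.1, by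
      have hc : Commute x y := hab Q _ hx.1 _ hy.1
      rw [hc.mul_pow, hx.2, hy.2, one_mul]⟩
    inv_mem' := fun {x} hx => ⟨inv_mem hx.1, by rw [inv_pow, hx.2, inv_one]⟩ }
  have hEc : ∀ x y : ↥E, x * y = y * x := fun x y => Subtype.ext (hab Q _ x.2.1 _ y.2.1)
  let _ : CommGroup ↥E := { (inferInstance : Group ↥E) with mul_comm := hEc }
  -- the stabiliser of `Q`
  let K : Subgroup (MulAut S) := {
    carrier := {n | ∀ x, n x ∈ Q ↔ x ∈ Q}
    one_mem' := fun x => Iff.rfl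
    mul_mem' := fun {a b} ha hb x => (ha (b x)).trans (hb x)
    inv_mem' := fun {a} ha x => by
      have h1 := ha (a⁻¹ x)
      rw [show a (a⁻¹ x) = x from MulAut.apply_inv_self _ a x] at h1
      exact h1.symm }
  have hAK : A ≤ K := fun a ha x => ⟨fun h => by
    have h1 := hAQ a⁻¹ (inv_mem ha) _ h
    rwa [show a⁻¹ (a x) = x from MulAut.inv_apply_self _ a x] at h1, hAQ a ha x⟩
  have hKE : ∀ n ∈ K, ∀ x : ↥E, n x ∈ E := fun n hn x => ⟨(hn x).2 x.2.1, by
    rw [← map_pow, x.2.2, map_one]⟩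
  let f : ↥K →* MulAut ↥E := {
    toFun := fun n => {
      toFun := fun x => ⟨(n : MulAut S) (x : S), hKE n n.2 _⟩
      invFun := fun x => ⟨((n⁻¹ : ↥K) : MulAut S) (x : S), hKE _ (n⁻¹ : ↥K).2 _⟩
      left_inv := fun x => Subtype.ext (MulAut.inv_apply_self _ (n : MulAut S) _)
      right_inv := fun x => Subtype.ext (MulAut.apply_inv_self _ (n : MulAut S) _)
      map_mul' := fun x y => Subtype.ext (map_mul (n : MulAut S) _ _) }
    map_one' := MulEquiv.ext fun x => rfl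
    map_mul' := fun a b => MulEquiv.ext fun x => rfl }
  have hf : ∀ (n : ↥K) (x : ↥E), ((f n x : ↥E) : S) = (n : MulAut S) x := fun _ _ => rfl
  have hfeq : ∀ n : ↥K, (∀ x : ↥E, (n : MulAut S) x = x) → f n = 1 := by
    intro n hn
    refine MulEquiv.ext fun x => ?_
    exact Subtype.ext (hn x)
  -- the normaliser of `Q`
  let NQ := normalizer ((Q : Subgroup S) : Set S)
  let g : ↥NQ →* ↥K := {
    toFun := fun s => ⟨MulAut.conj (s : S), fun x => ((Subgroup.mem_normalizer_iff.1 s.2) x).symm⟩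
    map_one' := Subtype.ext (map_one _)
    map_mul' := fun a b => Subtype.ext (map_mul _ _ _) }
  let L : Subgroup (MulAut ↥E) := (f.comp g).range
  let B : Subgroup (MulAut ↥E) := (A.subgroupOf K).map f
  have hBp : IsPGroup p B := (hAp.comap_subtype (K := K)).map f
  have hLp : ¬ p ∣ Nat.card L := by
    intro hd
    have h1 : Nat.card L = (f.comp g).ker.index := (Subgroup.index_ker _).symm
    have h2 : (Q : Subgroup S).subgroupOf NQ ≤ (f.comp g).ker := by
      intro x hx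
      rw [MonoidHom.mem_ker, MonoidHom.comp_apply]
      refine hfeq _ fun e => ?_
      show MulAut.conj (x : S) (e : S) = e
      have h3 : (x : S) * e = e * x := hab Q _ hx _ e.2.1
      rw [MulAut.conj_apply, h3]
      group
    have h3 : (f.comp g).ker.index ∣ ((Q : Subgroup S).subgroupOf NQ).index := index_dvd_of_le h2
    rw [h1] at hd
    exact Q.not_dvd_index ((hd.trans h3).trans (relIndex_dvd_index_of_le le_normalizer))
  have hgA : ∀ a ∈ A, ∀ s ∈ NQ, a s ∈ NQ := by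
    intro a ha s hs
    have h2 : ((⟨a, hAK ha⟩ * g ⟨s, hs⟩ * ⟨a, hAK ha⟩⁻¹ : ↥K) : MulAut S) = MulAut.conj (a s) := mul_conj_inv a s
    rw [Subgroup.mem_normalizer_iff]
    intro x
    have h3 := (⟨a, hAK ha⟩ * g ⟨s, hs⟩ * ⟨a, hAK ha⟩⁻¹ : ↥K).2 x
    rw [h2] at h3
    exact h3.symm
  have hBL : ∀ b ∈ B, ∀ l ∈ L, b * l * b⁻¹ ∈ L := by
    rintro _ ⟨a, ha, rfl⟩ _ ⟨s, rfl⟩
    refine ⟨⟨(a : MulAut S) s, hgA a ha s s.2⟩, ?_⟩
    rw [MonoidHom.comp_apply, MonoidHom.comp_apply, ← map_inv, ← map_mul, ← map_mul]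
    congr 1
    exact Subtype.ext (mul_conj_inv (a : MulAut S) s).symm
  have hcardE : Nat.card ↥E < p ^ p := hrk Q
  -- `L` has even order
  have hLeven : 2 ∣ Nat.card L := by
    obtain ⟨z, hz, hzr⟩ := hreal.isConj
    -- move `z` into `Q`
    have hz1 : IsPGroup p (zpowers z) := IsPGroup.of_card (n := 1) (by rw [Nat.card_zpowers, hz, pow_one])
    obtain ⟨Q', hQ'⟩ := hz1.exists_le_sylow
    obtain ⟨c, hc⟩ := MulAction.exists_smul_eq S Q' Q
    set w := c * z * c⁻¹ with hw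
    have hwQ : w ∈ (Q : Subgroup S) := by
      rw [← hc]
      exact ⟨z, hQ' (mem_zpowers z), rfl⟩
    have hwr : IsConj w w⁻¹ := by
      have h1 : IsConj z w := isConj_iff.2 ⟨c, rfl⟩
      have h2 : IsConj z⁻¹ w⁻¹ := isConj_iff.2 ⟨c, by rw [hw]; group⟩
      exact h1.symm.trans (hzr.trans h2)
    obtain ⟨d, hd⟩ := isConj_iff.1 hwr
    have hwo : orderOf w = p := by
      rw [hw, ← hz]
      exact orderOf_injective (MulAut.conj c).toMonoidHom (MulAut.conj c).injective z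
    -- Burnside
    have hQc : ∀ u ∈ (Q : Subgroup S), (Q : Subgroup S) ≤ centralizer ({u} : Set S) := fun u hu v hv =>
      mem_centralizer_singleton_iff.2 (hab Q v hv u hu)
    have hcent : (Q : Subgroup S) ≤ centralizer (zpowers w : Set S) := by
      intro v hv
      rw [mem_centralizer_iff]
      rintro _ ⟨i, rfl⟩
      have h1 : Commute w v := hab Q w hwQ v hv
      exact (h1.zpow_left i).eq
    have hcm : IsMulCommutative ↥(Q : Subgroup S) := ⟨⟨fun a b => Subtype.ext (hab Q a a.2 b b.2)⟩⟩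
    obtain ⟨n, hn, hnw⟩ := Sylow.conj_eq_normalizer_conj_of_mem Q w d⁻¹ hwQ (by
      rw [inv_inv, hd]
      exact inv_mem hwQ)
    rw [inv_inv, hd] at hnw
    -- `n⁻¹` inverts `w`
    have hn' : (n⁻¹ : S) ∈ NQ := inv_mem hn
    have hev : Even (orderOf ((f.comp g) ⟨n⁻¹, hn'⟩)) := by
      have hwE : w ∈ E := ⟨hwQ, by rw [← hwo, pow_orderOf_eq_one]⟩
      by_contra hodd
      rw [Nat.not_even_iff_odd] at hodd
      obtain ⟨k, hk⟩ := hodd
      set φ := (f.comp g) ⟨n⁻¹, hn'⟩ with hφ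
      have h1 : ∀ x : ↥E, (x : S) = w → ((φ x : ↥E) : S) = w⁻¹ := by
        rintro ⟨x, hx⟩ rfl
        show n⁻¹ * w * (n⁻¹)⁻¹ = w⁻¹
        rw [inv_inv, ← hnw]
      have h2 : φ ⟨w, hwE⟩ = (⟨w, hwE⟩ : ↥E)⁻¹ := Subtype.ext (h1 _ rfl)
      have h3 : ∀ i : ℕ, (φ ^ (2 * i)) ⟨w, hwE⟩ = ⟨w, hwE⟩ := by
        intro i
        induction i with
        | zero => rfl
        | succ i ih =>
          have e : φ ^ (2 * (i + 1)) = φ ^ (2 * i) * (φ * φ) := by
            rw [mul_add, pow_add]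
            simp [pow_two]
          rw [e, MulAut.mul_apply, MulAut.mul_apply, h2, map_inv, h2, inv_inv, ih]
      have h4 : (φ ^ orderOf φ) ⟨w, hwE⟩ = (⟨w, hwE⟩ : ↥E)⁻¹ := by
        rw [hk, pow_succ, MulAut.mul_apply, h2, map_inv, h3]
      rw [pow_orderOf_eq_one, MulAut.one_apply] at h4
      have h5 : w = w⁻¹ := congrArg Subtype.val h4
      have h6 : w ^ 2 = 1 := by
        rw [pow_two]
        nth_rewrite 1 [h5]
        rw [inv_mul_cancel]
      have h7 := orderOf_dvd_of_pow_eq_one h6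
      rw [hwo] at h7
      exact hp2 ((Nat.prime_dvd_prime_iff_eq hp.out Nat.prime_two).1 h7)
    have h8 : orderOf ((f.comp g) ⟨n⁻¹, hn'⟩) ∣ Nat.card L := by
      have h10 : orderOf (⟨(f.comp g) ⟨n⁻¹, hn'⟩, ⟨_, rfl⟩⟩ : ↥L) = orderOf ((f.comp g) ⟨n⁻¹, hn'⟩) :=
        Subgroup.orderOf_mk _ _
      rw [← h10]
      exact orderOf_dvd_natCard _
    exact (even_iff_two_dvd.1 hev).trans h8
  obtain ⟨l, hlL, hl2, hfix⟩ := even_fixed (fun x => Subtype.ext x.2.2) hcardE hp2 hBp hLp hBL hLeven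
  have hll : l * l = 1 := by rw [← pow_two, ← hl2, pow_orderOf_eq_one]
  have hcomm : ∀ b ∈ B, b * l = l * b := fun b hb => mul_inv_eq_iff_eq_mul.1 (hfix b hb)
  -- the group `⟨l⟩ B`
  let KB : Subgroup (MulAut ↥E) := {
    carrier := {x | x ∈ B ∨ l * x ∈ B}
    one_mem' := Or.inl B.one_mem
    mul_mem' := by
      rintro x y (hx | hx) (hy | hy)
      · exact Or.inl (mul_mem hx hy)
      · right
        have h1 := mul_mem hx hy
        rwa [← mul_assoc, hcomm x hx, mul_assoc] at h1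
      · right
        have h1 := mul_mem hx hy
        rwa [mul_assoc] at h1
      · left
        have h1 := mul_mem hx hy
        have h2 : l * x * (l * y) = l * (l * x) * (l * (l * y)) * (l * l) := by
          have h3 := hcomm _ hx
          have h4 := hcomm _ hy
          calc l * x * (l * y) = (l * x) * (l * y) := rfl
            _ = l * (l * x) * (l * (l * y)) * (l * l) := by
              rw [hll, mul_one, ← mul_assoc l l x, hll, one_mul, ← mul_assoc l l y, hll, one_mul]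
              have h5 : l * x * (l * y) = x * l * (l * y) := by
                have h6 : l * x = x * l := by
                  have h7 : l * (l * x) = (l * x) * l := h3.symm
                  rw [← mul_assoc, hll, one_mul] at h7
                  have h8 : x = l * x * l := h7
                  calc l * x = (l * x * l) * l := by rw [mul_assoc (l * x), hll, mul_one]
                    _ = x * l := by rw [← h8]
                rw [h6]
              rw [h5, mul_assoc x, ← mul_assoc l l y, hll, one_mul]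
        rw [h2, hll, mul_one, ← mul_assoc l l x, hll, one_mul, ← mul_assoc l l y, hll, one_mul] at h1
        exact h1
    inv_mem' := by
      rintro x (hx | hx)
      · exact Or.inl (inv_mem hx)
      · right
        have h1 := inv_mem hx
        have h3 : l * (l * x) = (l * x) * l := (hcomm _ hx).symm
        rw [← mul_assoc, hll, one_mul] at h3
        -- `x = l x l`
        have h4 : x⁻¹ * l⁻¹ = l * x⁻¹ := by
          have hli : l⁻¹ = l := inv_eq_of_mul_eq_one_left hll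
          have h5 : x⁻¹ = l⁻¹ * x⁻¹ * l⁻¹ := by
            nth_rewrite 1 [h3]
            group
          rw [hli] at h5 ⊢
          nth_rewrite 1 [h5]
          rw [mul_assoc, mul_assoc, hll, mul_one]
        rwa [mul_inv_rev, h4] at h1 }
  have hBKB : B ≤ KB := fun x hx => Or.inl hx
  have hlKB : l ∈ KB := Or.inr (by rw [hll]; exact B.one_mem)
  have hlB : l ∉ B := by
    intro hl
    obtain ⟨k, hk⟩ := hBp ⟨l, hl⟩
    have hk' : l ^ p ^ k = 1 := congrArg Subtype.val hk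
    have h1 := orderOf_dvd_of_pow_eq_one hk'
    rw [hl2] at h1
    exact hp2 ((Nat.prime_dvd_prime_iff_eq Nat.prime_two hp.out).1 (Nat.prime_two.dvd_of_dvd_pow h1)).symm
  have hrel : B.relIndex KB = 2 := by
    rw [relIndex, index_eq_two_iff_exists_notMem_and]
    refine ⟨⟨l, hlKB⟩, fun h => hlB (mem_subgroupOf.1 h), fun b => ?_⟩
    rcases b.2 with h | h
    · exact Or.inr (mem_subgroupOf.2 h)
    · left
      rw [mem_subgroupOf]
      show (b : MulAut ↥E) * l ∈ B
      have h3 : l * (l * (b : MulAut ↥E)) = (l * b) * l := (hcomm _ h).symm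
      rw [← mul_assoc, hll, one_mul] at h3
      have h4 : (b : MulAut ↥E) * l = l * b := by
        nth_rewrite 1 [h3]
        rw [mul_assoc, hll, mul_one]
      rw [h4]
      exact h
  -- the groups `K₀ < K₁`
  let H : Subgroup (MulAut S) := K ⊓ ((MulAut.conj : S →* MulAut S).range ⊔ A)
  have hAH : A ≤ H := le_inf hAK le_sup_right
  let fH : ↥H →* (MulAut ↥E) := f.comp (inclusion inf_le_left)
  have hBr : B ≤ fH.range := by
    rintro _ ⟨a, ha, rfl⟩
    exact ⟨⟨(a : MulAut S), hAH ha⟩, rfl⟩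
  have hlr : l ∈ fH.range := by
    obtain ⟨s, rfl⟩ := hlL
    exact ⟨⟨MulAut.conj (s : S), (g s).2, mem_sup_left ⟨_, rfl⟩⟩, rfl⟩
  have hKBr : KB ≤ fH.range := by
    rintro x (hx | hx)
    · exact hBr hx
    · have h1 := mul_mem (inv_mem hlr) (hBr hx)
      rwa [inv_mul_cancel_left] at h1
  have hnorm : ((MulAut.conj : S →* MulAut S).range).Normal := inn_normal
  obtain ⟨t, ⟨s, rfl⟩, ht2, htn⟩ := of_index_two hp2 (N := (MulAut.conj : S →* MulAut S).range) (P := A) hAp
    (fun h => P.not_dvd_index (h.trans (relIndex_dvd_index_of_le le_sup_right)))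
    (K := (KB.comap fH).map H.subtype) (K₀ := (B.comap fH).map H.subtype)
    (by
      intro a ha
      exact ⟨⟨a, hAH ha⟩, ⟨⟨a, hAK ha⟩, ha, rfl⟩, rfl⟩)
    (map_mono (comap_mono hBKB))
    (by
      rintro _ ⟨x, -, rfl⟩
      exact x.2.2)
    (by
      rw [relIndex_map_map_of_injective _ _ H.subtype_injective, relIndex_comap, map_comap_eq,
        inf_eq_right.2 hKBr, hrel])
  refine ⟨P, s, ?_, htn⟩
  rwa [← orderOf_injective _ (Gmn.conj_injective hZ) s]

/-- **Simple groups with abelian Sylow `p`-subgroups of rank less than `p`**, from the table of real elements. -/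
theorem row_of_abelian [IsSimpleGroup S] (hp2 : p ≠ 2) (hna : ¬ IsMulCommutative S)
    (hab : ∀ Q : Sylow p S, ∀ x ∈ Q, ∀ y ∈ Q, x * y = y * x)
    (hrk : ∀ Q : Sylow p S, Nat.card {x : S // x ∈ Q ∧ x ^ p = 1} < p ^ p) (h : H720.RowDef.Row p S) :
    H467.OddNorm.Row p S := by
  rcases h with h | h | ⟨F, i1, i2, hc, h4, e⟩
  · exact H467.OddNorm.Row.ev (Ev.of_abelian hp2 (center_eq_bot_of_simple fun h => hna ⟨⟨h⟩⟩) hab hrk h)
  · exact H467.OddNorm.Row.cyclic h
  · refine Or.inr (Or.inl ⟨F, i1, i2, ?_, h4, e⟩)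
    obtain ⟨n, -, hn⟩ := FiniteField.card F p
    exact ⟨n, hn⟩

end

end Cfsg.Agent.H952.On
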