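import Cfsg.Agent.H952.On.Table
import Cfsg.Agent.H507.GmnRows
import Cfsg.Agent.H696.GmnUntw
import Cfsg.Agent.H696.GmnTwD4
import Cfsg.Agent.H507.GmnTwF
import Cfsg.Agent.H681.GmnAlt

/-!
# The rows of S3855 with real elements of order `p`, or cyclic Sylow `p`-subgroups (helper952)

`PSp`, `G₂`, `F₄`, `E₈`, `³D₄`, `Sz`, `²G₂`, `²F₄` (characteristic different from `p`), alternating groups.
-/

set_option autoImplicit false

open Subgroup

namespace Cfsg.Agent.H952.On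

open Cfsg Cfsg.Agent.H467.OddNorm

variable {p : ℕ} [hp : Fact p.Prime]

theorem center_eq_bot {X : Type*} [Group X] [IsSimpleGroup X] (hna : ¬ IsMulCommutative X) : center X = ⊥ :=
  center_eq_bot_of_simple fun h => hna ⟨⟨h⟩⟩

/-- all elements of order `p` real -/
theorem row_of_real (hp2 : p ≠ 2) {X Y : Type} [Group X] [Finite X] [IsSimpleGroup X] (hna : ¬ IsMulCommutative X)
    (hd : p ∣ Nat.card X) [Group Y] (e : X ≃* Y) (h : ∀ z : Y, z ^ p = 1 → IsConj z z⁻¹) : Row p X := by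
  refine Row.ev (Ev.of_real hp2 (center_eq_bot hna) hd fun z hz _ => ?_)
  obtain ⟨c, hc⟩ := isConj_iff.1 (h (e z) (by rw [← map_pow, ← hz, pow_orderOf_eq_one, map_one]))
  refine ⟨e.symm c, e.injective ?_⟩
  rw [map_mul, map_mul, map_inv, MulEquiv.apply_symm_apply, hc, map_inv]

theorem psp (hp2 : p ≠ 2) : RowFor p (fun X _ => ∃ (F : Type) (_ : Field F) (_ : Fintype F) (m : ℕ), (p : F) ≠ 0 ∧
    Nonempty (X ≃* PSp m F)) := by
  rintro X _ _ _ hna hd ⟨F, iF, iN, m, hF, ⟨e⟩⟩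
  refine row_of_real hp2 hna hd e fun z hz => isConj_iff.2 (H507.GmnSp.conj_inv hp.out hp2 hF hz)

/-- the characteristic -/
theorem exists_char {F : Type} [Field F] (hF : (p : F) ≠ 0) [Finite F] : ∃ r : ℕ, r.Prime ∧ p ≠ r ∧ CharP F r := by
  obtain ⟨r, hr⟩ := CharP.exists F
  refine ⟨r, CharP.char_is_prime F r, ?_, hr⟩
  rintro rfl
  exact hF (CharP.cast_eq_zero F p)

open H696.GmnUntw in
open BpExc.RowsUntw BpExc.FamInst BpExc.FamUntw H696 Cfsg.Lie Cfsg.Lie.ChevalleyDatum in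
theorem g2 (hp2 : p ≠ 2) : RowFor p (fun X _ => ∃ (F : Type) (_ : Field F) (_ : Fintype F), (p : F) ≠ 0 ∧
    3 ≤ Fintype.card F ∧ Nonempty (X ≃* Lie.chevG2.group F)) := by
  rintro X _ _ _ hna hd ⟨F, iF, iN, hF, h3, ⟨e⟩⟩
  obtain ⟨r, hr, hpr, hc⟩ := exists_char hF
  have : Fact r.Prime := ⟨hr⟩
  exact row_of_real hp2 hna hd e fun z hz => isConj_inv g2T inv_G2 odd_one
    (H696.GmnUntw.center_eq_bot_of_simple (S1055.result (exists_ne_algClosed _))) (GmnNeg.negG2 g2T _) hp.out hpr hz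

open H696.GmnUntw in
open BpExc.RowsUntw BpExc.FamInst BpExc.FamUntw H696 Cfsg.Lie Cfsg.Lie.ChevalleyDatum in
theorem f4 (hp2 : p ≠ 2) : RowFor p (fun X _ => ∃ (F : Type) (_ : Field F) (_ : Fintype F), (p : F) ≠ 0 ∧
    Nonempty (X ≃* Lie.chevF4.group F)) := by
  rintro X _ _ _ hna hd ⟨F, iF, iN, hF, ⟨e⟩⟩
  obtain ⟨r, hr, hpr, hc⟩ := exists_char hF
  have : Fact r.Prime := ⟨hr⟩
  exact row_of_real hp2 hna hd e fun z hz => isConj_inv f4T inv_F4 odd_one
    (H696.GmnUntw.center_eq_bot_of_simple (S1054.result chevF4 (by simp))) (GmnNeg.negF4 f4T _) hp.out hpr hz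

open H696.GmnUntw in
open BpExc.RowsUntw BpExc.FamInst BpExc.FamUntw H696 Cfsg.Lie Cfsg.Lie.ChevalleyDatum in
theorem e8 (hp2 : p ≠ 2) : RowFor p (fun X _ => ∃ (F : Type) (_ : Field F) (_ : Fintype F), (p : F) ≠ 0 ∧
    Nonempty (X ≃* Lie.chevE8.group F)) := by
  rintro X _ _ _ hna hd ⟨F, iF, iN, hF, ⟨e⟩⟩
  obtain ⟨r, hr, hpr, hc⟩ := exists_char hF
  have : Fact r.Prime := ⟨hr⟩
  exact row_of_real hp2 hna hd e fun z hz => isConj_inv e8T inv_E8 odd_one
    (H696.GmnUntw.center_eq_bot_of_simple (S1054.result chevE8 (by simp))) (GmnNeg.negE8 e8T _) hp.out hpr hz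

theorem td4 (hp2 : p ≠ 2) : RowFor p (fun X _ => ∃ (K : Type) (_ : Field K) (_ : Fintype K) (q : ℕ), (p : K) ≠ 0 ∧
    IsPrimePow q ∧ Fintype.card K = q ^ 3 ∧ Nonempty (X ≃* Lie.twistedD4 K q)) := by
  rintro X _ _ _ hna hd ⟨K, iF, iN, q, hF, hq, hK, ⟨e⟩⟩
  obtain ⟨r, hr, hpr, hc⟩ := exists_char hF
  have hrp : Fact r.Prime := ⟨hr⟩
  obtain ⟨s, n, hs, hn, hsn⟩ := (isPrimePow_nat_iff _).1 hq
  have hsr : s = r := by
    obtain ⟨k, hrp', hk⟩ := FiniteField.card K r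
    have h1 : s ∣ r ^ (k : ℕ) := by
      rw [← hk, hK, ← hsn, ← pow_mul]
      exact dvd_pow_self s (by omega)
    exact (Nat.prime_dvd_prime_iff_eq hs hrp.out).1 (hs.dvd_of_dvd_pow h1)
  subst hsr
  exact row_of_real hp2 hna hd e fun z hz => H696.GmnTwD4.isConj_inv_d4 hpr hn hsn.symm hK hz

theorem tf4 (hp2 : p ≠ 2) : RowFor p (fun X _ => Lie.Iso2F4 X) := by
  rintro X _ _ _ hna hd ⟨K, _, _, m, -, hK, ⟨e⟩⟩
  refine Row.ev (Ev.of_real hp2 (center_eq_bot hna) hd fun z hz _ => ?_)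
  obtain ⟨c, hc⟩ := isConj_iff.1 (H507.GmnTwF.isConj_inv hK (e z) (by
    rw [MulEquiv.orderOf_eq, hz]
    exact hp.out.odd_of_ne_two hp2))
  refine ⟨e.symm c, e.injective ?_⟩
  rw [map_mul, map_mul, map_inv, MulEquiv.apply_symm_apply, hc, map_inv]

theorem sz (hp2 : p ≠ 2) : RowFor p (fun X _ => Lie.IsoSuzuki X) := by
  rintro X _ _ _ hna hd ⟨F, _, _, m, hm, hF, ⟨e⟩⟩
  refine Row.cyclic fun Q => ?_
  have h1 := Cfsg.Agent.H67.SzOdd.sylow_cyclic hm hF hp2 (Q.mapSurjective (f := e.toMonoidHom) e.surjective)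
  have h2 : Function.Injective (e.toMonoidHom.subgroupMap (Q : Subgroup X)) := by
    intro a b hab
    apply Subtype.ext
    exact e.injective (congrArg Subtype.val hab)
  have h3 : IsCyclic ↥(map e.toMonoidHom (Q : Subgroup X)) := h1
  exact isCyclic_of_injective (e.toMonoidHom.subgroupMap (Q : Subgroup X)) h2

theorem ree (hp2 : p ≠ 2) (hp3 : p ≠ 3) : RowFor p (fun X _ => Lie.IsoRee X) := by
  rintro X _ _ _ hna hd ⟨K, _, _, m, hm, hK, ⟨e⟩⟩
  refine Row.cyclic fun Q => ?_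
  have hp4 : 3 < p := by
    have := hp.out.two_le
    omega
  have h1 := Cfsg.Agent.S1156.result hm hK hp4 (Q.mapSurjective (f := e.toMonoidHom) e.surjective)
  have h2 : Function.Injective (e.toMonoidHom.subgroupMap (Q : Subgroup X)) := by
    intro a b hab
    apply Subtype.ext
    exact e.injective (congrArg Subtype.val hab)
  have h3 : IsCyclic ↥(map e.toMonoidHom (Q : Subgroup X)) := h1
  exact isCyclic_of_injective (e.toMonoidHom.subgroupMap (Q : Subgroup X)) h2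

/-! ### alternating groups -/

section Alt

open Equiv.Perm

/-- elements of order `p` of `A_n`, `n ≥ 2 p`, are real -/
theorem alt_real {α : Type*} [Fintype α] [DecidableEq α] (hp2 : p ≠ 2) (h2 : 2 * p ≤ Fintype.card α)
    (z : alternatingGroup α) (hz1 : orderOf z = p) : ∃ g : alternatingGroup α, g * z * g⁻¹ = z⁻¹ := by
  have hz : orderOf (z : Equiv.Perm α) = p := by rw [← hz1, Subgroup.orderOf_coe]
  have h2p := hp.out.two_le
  have hinv : (z : Equiv.Perm α) ^ (p - 1) = (z : Equiv.Perm α)⁻¹ := by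
    rw [eq_inv_iff_mul_eq_one, ← pow_succ, Nat.sub_add_cancel hp.out.pos, ← hz, pow_orderOf_eq_one]
  have hcop : Nat.Coprime (p - 1) p := by
    rw [Nat.coprime_comm]
    exact (Nat.Prime.coprime_iff_not_dvd hp.out).2 fun h => by
      have := Nat.le_of_dvd (by omega) h
      omega
  obtain ⟨σ, hσ⟩ := isConj_iff.1 (H681.GmnAlt.isConj_pow hz hcop)
  rw [hinv] at hσ
  by_cases hs : σ ∈ alternatingGroup α
  · exact ⟨⟨σ, hs⟩, Subtype.ext hσ⟩
  obtain ⟨τ, hτ, hτ'⟩ : ∃ τ ∈ Subgroup.centralizer {(z : Equiv.Perm α)}, τ ∉ alternatingGroup α := by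
    by_contra hcon
    push Not at hcon
    have h3 := card_le_of_centralizer_le_alternating hcon
    have h1 := count_le_one_of_centralizer_le_alternating hcon p
    obtain ⟨a, ha⟩ := cycleType_prime_order (σ := (z : Equiv.Perm α)) (by rw [hz]; exact hp.out)
    rw [ha, hz, Multiset.count_replicate_self] at h1
    rw [ha, hz, Multiset.sum_replicate, smul_eq_mul] at h3
    have h4 : a = 0 := by omega
    subst h4
    have h5 : p ≠ 2 := hp2
    have h6 : 3 ≤ p := by omega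
    omega
  have hτz : τ * z = z * τ := Subgroup.mem_centralizer_singleton_iff.1 hτ
  refine ⟨⟨σ * τ, ?_⟩, Subtype.ext ?_⟩
  · rw [mem_alternatingGroup] at hs hτ' ⊢
    rw [map_mul, (Int.units_eq_one_or (sign σ)).resolve_left hs, (Int.units_eq_one_or (sign τ)).resolve_left hτ']
    rfl
  · show σ * τ * (z : Equiv.Perm α) * (σ * τ)⁻¹ = (z : Equiv.Perm α)⁻¹
    have e : σ * τ * z * (σ * τ)⁻¹ = σ * (τ * z * τ⁻¹) * σ⁻¹ := by group
    rw [e, hτz, mul_inv_cancel_right, hσ]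

theorem alt (hp2 : p ≠ 2) : RowFor p (fun X _ => IsAlternating X) := by
  rintro X _ _ _ hna hd ⟨n, hn, ⟨e⟩⟩
  by_cases h : 2 * p ≤ n
  · refine Row.ev (Ev.of_real hp2 (center_eq_bot hna) hd fun z hz _ => ?_)
    obtain ⟨g, hg⟩ := alt_real hp2 (by rw [Fintype.card_fin]; exact h) (e z) (by rw [MulEquiv.orderOf_eq, hz])
    refine ⟨e.symm g, e.injective ?_⟩
    rw [map_mul, map_mul, map_inv, MulEquiv.apply_symm_apply, hg, map_inv]
  · refine Row.of_sq_not_dvd fun hd2 => ?_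
    have h1 : Nat.card X * 2 = n.factorial := by
      rw [Nat.card_congr e.toEquiv]
      have : Nontrivial (Fin n) := Fin.nontrivial_iff_two_le.2 (by omega)
      have h2 := nat_card_alternatingGroup (α := Fin n)
      rw [h2, Nat.card_eq_fintype_card, Fintype.card_fin, Nat.div_mul_cancel]
      exact Nat.dvd_factorial (by norm_num) (by omega)
    have h2 : p ^ 2 ∣ n.factorial := by
      rw [← h1]
      exact Dvd.dvd.mul_right hd2 2
    have h3 := (Nat.Prime.pow_dvd_factorial_iff hp.out (n := n) (b := n + 1) (by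
      exact lt_of_le_of_lt (Nat.log_le_self p n) (Nat.lt_succ_self n))).1 h2
    have h4 : ∑ i ∈ Finset.Ico 1 (n + 1), n / p ^ i ≤ 1 := by
      have h5 : ∀ i ∈ Finset.Ico 1 (n + 1), i ≠ 1 → n / p ^ i = 0 := by
        intro i hi hi1
        rw [Finset.mem_Ico] at hi
        apply Nat.div_eq_of_lt
        have h6 : p ^ 2 ≤ p ^ i := Nat.pow_le_pow_right hp.out.pos (by omega)
        have h7 : 2 * p ≤ p ^ 2 := by
          rw [pow_two]
          exact Nat.mul_le_mul_right p hp.out.two_le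
        omega
      rw [Finset.sum_eq_single 1 h5 (fun h => by
        exfalso
        apply h
        rw [Finset.mem_Ico]
        omega), pow_one]
      have : n / p < 2 := (Nat.div_lt_iff_lt_mul hp.out.pos).2 (by omega)
      omega
    omega

end Alt

end Cfsg.Agent.H952.On
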