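import Cfsg.Agent.H952.On.RowsA
import Cfsg.Agent.H966.OnPslA
import Cfsg.Agent.H604.On.PslB
import Cfsg.Agent.H71.OnPSLc
import Cfsg.Agent.H709.OnPSU
import Cfsg.Agent.H538.OnPSUb
import Cfsg.Agent.H993.OnPSUc

/-!
# The rows `PSL_n(q)` and `PSU_n(q)` of S3855 (helper952)

Assembly of the rows of helper966, helper604, helper71 (linear) and helper709, helper538, helper993 (unitary).
-/

set_option autoImplicit false

open Subgroup

namespace Cfsg.Agent.H952.On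

open Cfsg Cfsg.Agent.H467.OddNorm

variable {p : ℕ} [hp : Fact p.Prime]

theorem orderOf_cast_ne_zero {a : ℕ} (h : ¬ p ∣ a) : orderOf ((a : ℕ) : ZMod p) ≠ 0 := by
  have h1 : ((a : ℕ) : ZMod p) ≠ 0 := fun h0 => h ((ZMod.natCast_eq_zero_iff a p).1 h0)
  have h2 : IsOfFinOrder ((a : ℕ) : ZMod p) := (isOfFinOrder_iff_pow_eq_one).2
    ⟨p - 1, Nat.sub_pos_of_lt hp.out.one_lt, ZMod.pow_card_sub_one_eq_one h1⟩
  exact h2.orderOf_pos.ne'

theorem orderOf_neg_cast_ne_zero {a : ℕ} (h : ¬ p ∣ a) : orderOf (-(a : ZMod p)) ≠ 0 := by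
  have h1 : -(a : ZMod p) ≠ 0 := fun h0 => h ((ZMod.natCast_eq_zero_iff a p).1 (neg_eq_zero.1 h0))
  have h2 : IsOfFinOrder (-(a : ZMod p)) := (isOfFinOrder_iff_pow_eq_one).2
    ⟨p - 1, Nat.sub_pos_of_lt hp.out.one_lt, ZMod.pow_card_sub_one_eq_one h1⟩
  exact h2.orderOf_pos.ne'

theorem not_dvd_card {F : Type} [Field F] [Fintype F] (hF : (p : F) ≠ 0) : ¬ p ∣ Fintype.card F := by
  obtain ⟨r, hr, hpr, hc⟩ := exists_char hF
  obtain ⟨k, hr', hk⟩ := FiniteField.card F r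
  rw [hk]
  intro hd
  exact hpr ((Nat.prime_dvd_prime_iff_eq hp.out hr).1 (hp.out.dvd_of_dvd_pow hd))

theorem psl (hp2 : p ≠ 2) : RowFor p (fun X _ => ∃ (F : Type) (_ : Field F) (_ : Fintype F) (n : ℕ), (p : F) ≠ 0 ∧
    2 ≤ n ∧ Nonempty (X ≃* Matrix.ProjectiveSpecialLinearGroup (Fin n) F)) := by
  rintro X _ _ _ hna hd ⟨F, iF, iN, n, hF, hn, ⟨e⟩⟩
  have hs : IsSimpleGroup (Matrix.ProjectiveSpecialLinearGroup (Fin n) F) := e.symm.isSimpleGroup
  have hc : center (Matrix.ProjectiveSpecialLinearGroup (Fin n) F) = ⊥ := center_eq_bot (nonab_congr e hna)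
  have hd' : p ∣ Nat.card (Matrix.ProjectiveSpecialLinearGroup (Fin n) F) := by rwa [← Nat.card_congr e.toEquiv]
  refine Row.congr e.symm ?_
  by_cases h1 : p ∣ Fintype.card F - 1
  · exact H966.OnPslA.psl_a hn hp2 h1 hc
  · by_cases h2 : Even (orderOf ((Fintype.card F : ℕ) : ZMod p)) ∨ n < 2 * orderOf ((Fintype.card F : ℕ) : ZMod p)
    · exact H604.On.psl_b hn hp2 hF h1 h2 hc hd'
    · rw [not_or, Nat.not_even_iff_odd, not_lt] at h2
      refine Row.ev (H71.OnPSLc.psl_c hp2 hF rfl ?_ h2.1 h2.2 hc)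
      by_contra h3
      have h0 := orderOf_cast_ne_zero (not_dvd_card hF)
      have h4 : orderOf ((Fintype.card F : ℕ) : ZMod p) = 1 := by
        obtain ⟨k, hk⟩ := h2.1
        omega
      rw [orderOf_eq_one_iff] at h4
      have h5 : (((Fintype.card F - 1 : ℕ)) : ZMod p) = 0 := by
        rw [Nat.cast_sub Fintype.card_pos, h4, Nat.cast_one, sub_self]
      exact h1 ((ZMod.natCast_eq_zero_iff _ p).1 h5)

theorem psu (hp2 : p ≠ 2) : RowFor p (fun X _ => ∃ (F : Type) (_ : Field F) (_ : Fintype F) (n q : ℕ), (p : F) ≠ 0 ∧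
    Fintype.card F = q ^ 2 ∧ 3 ≤ n ∧ ¬ (n = 3 ∧ q = 2) ∧ Nonempty (X ≃* PSU n F q)) := by
  rintro X _ _ _ hna hd ⟨F, iF, iN, n, q, hF, hq, hn, h32, ⟨e⟩⟩
  have hd' : p ∣ Nat.card (PSU n F q) := by rwa [← Nat.card_congr e.toEquiv]
  have hpq : ¬ p ∣ q := fun h => not_dvd_card hF (by rw [hq]; exact h.trans (dvd_pow_self q two_ne_zero))
  refine Row.congr e.symm ?_
  by_cases h1 : p ∣ q + 1
  · exact Row.ev (H709.OnPSU.psu_a hq hn h32 hp2 h1)
  · by_cases h2 : Even (orderOf (-(q : ZMod p))) ∨ n < 2 * orderOf (-(q : ZMod p))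
    · exact H538.OnPSUb.psu_b hq hn h32 hp2 hpq h1 h2 hd'
    · rw [not_or, Nat.not_even_iff_odd, not_lt] at h2
      refine Row.ev (H993.OnPSUc.psu_c hq hp2 hpq rfl ?_ h2.1 h2.2)
      by_contra h3
      have h0 := orderOf_neg_cast_ne_zero hpq
      have h4 : orderOf (-(q : ZMod p)) = 1 := by
        obtain ⟨k, hk⟩ := h2.1
        omega
      rw [orderOf_eq_one_iff] at h4
      have h5 : (((q + 1 : ℕ)) : ZMod p) = 0 := by
        rw [Nat.cast_add, Nat.cast_one, ← h4, add_neg_cancel]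
      exact h1 ((ZMod.natCast_eq_zero_iff _ p).1 h5)

end Cfsg.Agent.H952.On
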