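import Cfsg.Agent.H952.On.RowsB
import Cfsg.Agent.H142.OnE6a
import Cfsg.Agent.H142.OnE6b
import Cfsg.Agent.H86.On.TE6
import Cfsg.Agent.H122.On.TwESix

/-!
# The rows `E₆(q)` and `²E₆(q)` of S3855 (helper952)

Assembly of the rows of helper142 (untwisted), helper86 and helper122 (twisted).
-/

set_option autoImplicit false

open Subgroup

namespace Cfsg.Agent.H952.On

open Cfsg Cfsg.Agent.H467.OddNorm

variable {p : ℕ} [hp : Fact p.Prime]

theorem e6 (hp2 : p ≠ 2) : RowFor p (fun X _ => ∃ (F : Type) (_ : Field F) (_ : Fintype F), (p : F) ≠ 0 ∧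
    Nonempty (X ≃* Lie.chevE6.group F)) := by
  rintro X _ _ _ hna hd ⟨F, iF, iN, hF, ⟨e⟩⟩
  have hd' : p ∣ Nat.card ↥(Lie.chevE6.group F) := by rwa [← Nat.card_congr e.toEquiv]
  refine Row.congr e.symm ?_
  by_cases h3 : orderOf ((Fintype.card F : ℕ) : ZMod p) = 3
  · exact Row.ev (H142.OnE6b.e6_b hp2 F h3)
  · exact H142.OnE6a.e6_a hp2 F hF h3 hd'

theorem te6 (hp2 : p ≠ 2) : RowFor p (fun X _ => ∃ (K : Type) (_ : Field K) (_ : Fintype K) (q : ℕ), (p : K) ≠ 0 ∧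
    IsPrimePow q ∧ Fintype.card K = q ^ 2 ∧ Nonempty (X ≃* Lie.twistedE6 K q)) := by
  rintro X _ _ _ hna hd ⟨K, iF, iN, q, hF, hq, hK, ⟨e⟩⟩
  have hd' : p ∣ Nat.card ↥(Lie.twistedE6 K q) := by rwa [← Nat.card_congr e.toEquiv]
  refine Row.congr e.symm ?_
  by_cases h3 : orderOf (-(q : ZMod p)) = 3
  · exact Row.ev (H122.On.TwESix.te6_b hp2 hq hK h3)
  · exact H86.On.te6_a hp2 hq hK hF h3 hd'

end Cfsg.Agent.H952.On
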